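import Cfsg.Agent.Mrg.Omega.S5.SymBig
import Cfsg.Agent.Mrg.Omega.NSix.JNot
import Cfsg.Agent.Mrg.Omega.NSix.Zero
import Cfsg.Agent.Mrg.Omega.NO3S.SN.Plug
import Cfsg.Agent.Mrg.Omega.NSix.HTwo.LemTwo
import Cfsg.Agent.Mrg.Omega.NSix.MatchApp

section


/-!
# OMEGA N6: (H2) (`S5.SymBig.SymH2`), the top of #18323 (helper480)  (helper840)

`Pos S P ε` : `P ∈ P*(G,S)`, `V = zl S P` the even subsets of `2^m + 1 ≥ 9` points, `Engine.Hyp V P ε`, and no two
`U_ij`, `U_kl` of disjoint pairs commute.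

* `Pos.of` : a counterexample to (H2) in the position of `S5.SymBig.Pr` is a `Pos`;
* `Pos.false` : `Pos`, `⟨P, C_G(Z)⟩` 2-local (THEOREM SN), `T₁ = C_S(r_ij)` Sylow in `C_G(r_ij)` with its normaliser in
  `N_G(V)`, every minimal parabolic over `T₁` in `N_G(V)` or in `C_G(z_0)`: contradiction;
* `Steps K` : these facts on `C_G(r_ij)`; `symH2_of : Steps K → SN.Two K → SymH2 K`;
  `symBig : Steps K → SN.Two K → S5.Main.SymBig K`.
-/

set_option autoImplicit false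

namespace Cfsg.Agent.Omega.NSix.HTwo.Main

open Subgroup Cfsg Cfsg.Agent.Omega.MinPar
open Cfsg.Agent.ZN (o2 zc zl)
open Cfsg.Agent.Omega.Frame (Ctx Cls)
open Cfsg.Agent.Omega.FrameNOFF (CZ)
open Cfsg.Agent.Omega.S5.Def Cfsg.Agent.Omega.S5.Syl
open Cfsg.Agent.Omega.NSix.Base Cfsg.Agent.Omega.NSix.Basic
open Cfsg.Agent.Omega.NSix.Zero (WP)
open Cfsg.Agent.Omega.NSix.Engine (Hyp D4)
open Cfsg.Agent.Omega.S5.SymBig (H2 Pr SymH2)
open Cfsg.Agent.MinSimple.MinParabolic (IsMinPar)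

universe u

section

variable {G : Type u} [Group G] [Finite G]

/-- The situation of #18323. -/
structure Pos (S : Sylow 2 G) (P : Subgroup G) {m : ℕ} (ε : (Fin (2 ^ m + 1) → ZMod 2) → G) : Prop where
  c2 : IsCharacteristicTwoType G
  m3 : 3 ≤ m
  par : IsParS (S : Subgroup G) P
  hyp : Hyp (zl (S : Subgroup G) P) P ε
  fix0 : Fix0 ε (S : Subgroup G)
  nc : ∀ i j k l : Fin (2 ^ m + 1), D4 i j k l → ¬ ∀ u ∈ UU ε i j, ∀ y ∈ UU ε k l, u * y = y * u

/-- `C_G(r_ij) ≤ N_G(V)` for all pairs implies (H2). -/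
theorem h2_of_nn {n : ℕ} {V P : Subgroup G} {ε : (Fin n → ZMod 2) → G} (h : Hyp V P ε)
    (hnn : ∀ i j, i ≠ j → NN ε i j ≤ normalizer (V : Set G)) : H2 ε := by
  intro i j k l hij hkl _ _ _ _
  refine le_trans ?_ ((h.V_le hkl).trans (h.W2_leQ hkl))
  unfold UU
  rw [closure_le]
  rintro x ⟨g, hg, a, -, -, rfl⟩
  exact (mem_normalizer_iff.1 (hnn i j hij hg) _).1 (h.ev.mem _)

/-- The hypotheses `Engine.Hyp` from a pair. -/
theorem hyp_of {S S' : Sylow 2 G} {V V' P P' : Subgroup G} {m m' : ℕ}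
    {ε : (Fin (2 ^ m + 1) → ZMod 2) → G} {ε' : (Fin (2 ^ m' + 1) → ZMod 2) → G} (h : Pr S S' V V' P P' ε ε')
    (hm : 3 ≤ m) : Hyp V P ε := by
  have hs := h.sit hm
  have h5 : 5 ≤ 2 ^ m + 1 := five_le (by omega)
  have hodd : Odd (2 ^ m + 1) := Even.add_one (Nat.even_pow.mpr ⟨even_two, by omega⟩)
  refine Hyp.of h.c2 h5 hodd h.two.even S h.two.le h.zS
    (fun i j k hij hki hkj q hq => hs.pair hij hki hkj hq) (fun i j hij => hs.o2_le_P hij) ?_
  obtain ⟨i, j, hij, b, hm', hb, hbv⟩ := h.nform'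
  exact ⟨i, j, hij, b, hm', hb, hbv⟩

/-- A counterexample to (H2) is a `Pos`. -/
theorem Pos.of {S S' : Sylow 2 G} {V' P P' : Subgroup G} {m m' : ℕ}
    {ε : (Fin (2 ^ m + 1) → ZMod 2) → G} {ε' : (Fin (2 ^ m' + 1) → ZMod 2) → G}
    (h : Pr S S' (zl (S : Subgroup G) P) V' P P' ε ε') (hm : 3 ≤ m) (hP : IsParS (S : Subgroup G) P)
    (hno : ¬ H2 ε) : Pos S P ε where
  c2 := h.c2
  m3 := hm
  par := hP
  hyp := hyp_of h hm
  fix0 := h.two.fix
  nc := fun i j k l hD hc => hno fun a b c d hab hcd hac had hbc hbd =>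
    (hyp_of h hm).hq_of_comm (fun {_ _ _ _} hD' => (hyp_of h hm).comm_transfer hD hD' hc)
      ⟨hab, hac, had, hbc, hbd, hcd⟩

variable {S : Sylow 2 G} {P : Subgroup G} {m : ℕ} {ε : (Fin (2 ^ m + 1) → ZMod 2) → G}

/-- **#18323 (8)**. -/
theorem Pos.false (h : Pos S P ε) (hloc : ¬ NonLoc P (CZ (S : Subgroup G))) {i j : Fin (2 ^ m + 1)} (hij : i ≠ j)
    (hT : ¬ 2 ∣ ((S : Subgroup G) ⊓ NN ε i j).relIndex (NN ε i j))
    (hNT : NN ε i j ⊓ normalizer (((S : Subgroup G) ⊓ NN ε i j : Subgroup G) : Set G) ≤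
      normalizer (zl (S : Subgroup G) P : Set G))
    (hR : ∀ R : Subgroup G, IsMinPar ((S : Subgroup G) ⊓ NN ε i j) R → R ≤ NN ε i j →
      R ≤ normalizer (zl (S : Subgroup G) P : Set G) ∨ R ≤ centralizer ({zz ε 0} : Set G)) : False := by
  have h2 : 2 ≤ m := by have := h.m3; omega
  obtain ⟨e1, e2⟩ := End.le_sup h.c2 h2 h.par h.hyp.ev h.fix0
  obtain ⟨k, l, hkl, g, hg, -, hgV⟩ := h.hyp.mov
  have h3 := (End.nn_le_normalizer h.c2 h2 h.par h.hyp.ev h.fix0 hloc hij hT (hNT.trans e1)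
    (fun R hR1 hR2 => (hR R hR1 hR2).elim (fun h4 => h4.trans e1) fun h4 => h4.trans e2)
    ⟨k, l, hkl, g, hg, hgV⟩).2
  obtain ⟨a, b, c, d, hD⟩ : ∃ a b c d : Fin (2 ^ m + 1), D4 a b c d := by
    have h5 : 5 ≤ 2 ^ m + 1 := five_le h2
    refine ⟨⟨0, by omega⟩, ⟨1, by omega⟩, ⟨2, by omega⟩, ⟨3, by omega⟩, ?_, ?_, ?_, ?_, ?_, ?_⟩ <;>
      · intro e
        have := congrArg Fin.val e
        simp at this
  refine h.nc a b c d hD fun u hu y hy => ?_
  have hU : ∀ {a b : Fin (2 ^ m + 1)}, a ≠ b → UU ε a b ≤ zl (S : Subgroup G) P := by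
    intro a b hab
    unfold UU
    rw [closure_le]
    rintro x ⟨g, hg, k, -, -, rfl⟩
    exact (mem_normalizer_iff.1 (h3 a b hab hg) _).1 (h.hyp.ev.mem _)
  exact h.hyp.ev.comm_mem (hU hD.ij hu) (hU hD.kl hy)

end

/-- **(1), (2), (4) - (7) of #18323.** -/
def Steps (K : Cls.{u}) : Prop :=
  ∀ (G : Type u) [Group G] [Finite G], Ctx G → K G → ∀ (S : Sylow 2 G) (P : Subgroup G) (m : ℕ)
    (ε : (Fin (2 ^ m + 1) → ZMod 2) → G), Pos S P ε → ∀ i j : Fin (2 ^ m + 1), i ≠ j →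
      (∃ a ∈ (S : Subgroup G), Acts ε a (Equiv.swap i j)) →
        ¬ 2 ∣ ((S : Subgroup G) ⊓ NN ε i j).relIndex (NN ε i j) ∧
        NN ε i j ⊓ normalizer (((S : Subgroup G) ⊓ NN ε i j : Subgroup G) : Set G) ≤
          normalizer (zl (S : Subgroup G) P : Set G) ∧
        ∀ R : Subgroup G, IsMinPar ((S : Subgroup G) ⊓ NN ε i j) R → R ≤ NN ε i j →
          R ≤ normalizer (zl (S : Subgroup G) P : Set G) ∨ R ≤ centralizer ({zz ε 0} : Set G)

/-- **(H2)** of N6. -/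
theorem symH2_of {K : Cls.{u}} (hS : Steps K) (h2 : NO3S.SN.Two K) : SymH2 K := by
  intro G _ _ hG hK S _ _ _ _ _ P₁ P₂ y m m' ε ε₂ hm hm' hl _
  by_contra hno
  have hpr := S5.SymBig.pr_of hG.char2 (by omega) hm' hl
  have h := Pos.of hpr hm hl.pair.star₁ hno
  obtain ⟨i, j, hij, hsw⟩ := PairCen.exists_swap_mem (by omega) h.hyp.ev
    (MinSimple.Basic.not_dvd_relIndex S hl.pair.star₁.le)
  obtain ⟨e1, e2, e3⟩ := hS G hG hK S P₁ m ε h i j hij hsw
  exact h.false (NO3S.SN.theoremSN_even h2 hK hG S hl.pair.star₁ hm hl.even hl.fix0) hij e1 e2 e3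

/-- **The leaf II.c.** -/
theorem symBig {K : Cls.{u}} (hS : Steps K) (h2 : NO3S.SN.Two K) : S5.Main.SymBig K :=
  S5.SymBig.symBig_of (symH2_of hS h2)

end Cfsg.Agent.Omega.NSix.HTwo.Main

end

section


/-!
# OMEGA N6, (H2) by #18920 (helper605): (6), the end  (helper821)

`false_of_fixL` : in the position `Pos` (two disjoint `U_ij`, `U_kl` do not commute), `S` inducing `(i j)`,
`N_N(V_ij) ≤ N_G(V)` (`LemTwo.In`): `N = C_G(r_ij)` does not fix `λ : O₂(N) → F₂`.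
-/

set_option autoImplicit false
set_option linter.unusedSectionVars false

namespace Cfsg.Agent.Omega.NSix.HT.Fix

open Subgroup Cfsg
open Cfsg.Agent.ZN (o2 zc zl)
open Cfsg.Agent.MinSimple.VModule (o2_le o2_isPGroup le_normalizer_o2 le_o2)
open Cfsg.Agent.Omega.S5.Def Cfsg.Agent.Omega.S5.Syl
open Cfsg.Agent.Omega.NSix.Base Cfsg.Agent.Omega.NSix.Basic Cfsg.Agent.Omega.NSix.Engine
open Cfsg.Agent.Omega.NSix.HTwo.LemTwo (XX In)
open Cfsg.Agent.Omega.NSix.HTwo.Main (Pos)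
open Cfsg.Agent.Omega.TTn
open Cfsg.Agent.MinSimple.MinParabolic (IsMinPar)

universe u

variable {G : Type u} [Group G] [Finite G] {m : ℕ}

/-- `O₂(C_G(z_i))` centralises `V` -/
theorem o2_le_cent (S : Sylow 2 G) {V P : Subgroup G} {ε : (Fin (2 ^ m + 1) → ZMod 2) → G} (hm : 3 ≤ m)
    (h : EvenSet (2 ^ m + 1) V P ε) (hSP : (S : Subgroup G) ≤ P) (h0 : Fix0 ε (S : Subgroup G))
    (i : Fin (2 ^ m + 1)) : o2 (centralizer ({zz ε i} : Set G)) ≤ centralizer (V : Set G) := by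
  intro x hx
  obtain ⟨p, hp, hps⟩ := h.full (Equiv.swap 0 i)
  have h1 := PtCen.conj_o2_cent (g := p) hx
  rw [zz_conj hps, Equiv.swap_apply_right] at h1
  have h2 := PtCen.o2_le_cent S hm h hSP h0 h1
  rw [mem_centralizer_iff] at h2 ⊢
  intro v hv
  obtain ⟨y, rfl⟩ := h.surj v hv
  have h3 := h2 (p * ε y * p⁻¹) (by rw [hps y]; exact h.mem _)
  have h4 : p * (ε y * x) * p⁻¹ = p * (x * ε y) * p⁻¹ := by
    calc p * (ε y * x) * p⁻¹ = p * ε y * p⁻¹ * (p * x * p⁻¹) := by group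
      _ = p * x * p⁻¹ * (p * ε y * p⁻¹) := h3
      _ = _ := by group
  exact mul_left_cancel (mul_right_cancel h4)

/-- the elements of `C_G(z_i)` normalise `Z(O₂(C_G(z_i)))` -/
theorem conj_center {z g a : G} (hg : g * z = z * g)
    (ha : a ∈ o2 (centralizer ({z} : Set G)) ⊓ centralizer (o2 (centralizer ({z} : Set G)) : Set G)) :
    g * a * g⁻¹ ∈ o2 (centralizer ({z} : Set G)) ⊓ centralizer (o2 (centralizer ({z} : Set G)) : Set G) := by
  have hgC : g ∈ centralizer ({z} : Set G) := mem_centralizer_singleton_iff.2 hg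
  have hn := le_normalizer_o2 _ hgC
  refine ⟨(mem_normalizer_iff.1 hn a).1 ha.1, mem_centralizer_iff.2 fun y hy => ?_⟩
  have h1 : g⁻¹ * y * g ∈ o2 (centralizer ({z} : Set G)) := by
    have := (mem_normalizer_iff.1 (inv_mem hn) y).1 hy
    rwa [inv_inv] at this
  have h2 := mem_centralizer_iff.1 ha.2 _ h1
  calc y * (g * a * g⁻¹) = g * (g⁻¹ * y * g * a) * g⁻¹ := by group
    _ = g * (a * (g⁻¹ * y * g)) * g⁻¹ := by rw [h2]
    _ = _ := by group

variable {S : Sylow 2 G} {P : Subgroup G} {ε : (Fin (2 ^ m + 1) → ZMod 2) → G} {i j : Fin (2 ^ m + 1)}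

/-- the elements of `N ∩ N_G(V)` fix `{z_i, z_j}` -/
theorem zz_of_mem {V : Subgroup G} (hI : In S V P ε i j) {g : G} (hg : g ∈ NN ε i j)
    (hgL : g ∈ normalizer (V : Set G)) : g * zz ε i * g⁻¹ = zz ε i ∨ g * zz ε i * g⁻¹ = zz ε j := by
  obtain ⟨σ, hσ⟩ := hI.evL.perm g hgL
  rw [zz_conj hσ]
  rcases hI.cosetHyp.pair_of_acts hσ (mem_NN.1 hg) with ⟨h1, -⟩ | ⟨h1, -⟩
  · left; rw [h1]
  · right; rw [h1]

/-- `N` fixes the coset `z_i U` if it fixes `λ` -/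
theorem coset {V : Subgroup G} (hI : In S V P ε i j) (hfix : FixL ε i j) :
    NN ε i j ≤ CU ε i j {zz ε i} := by
  have hij := hI.ij
  have hL : ∀ g ∈ NN ε i j, g ∈ normalizer (V : Set G) → g ∈ CU ε i j ({zz ε i} : Set G) := by
    intro g hg hgL
    refine ⟨hg, fun x hx => ?_⟩
    rw [Set.mem_singleton_iff] at hx
    subst hx
    rcases zz_of_mem hI hg hgL with h1 | h1
    · rw [h1, mul_inv_cancel]; exact one_mem _
    · rw [h1]
      have h2 : (zz ε i)⁻¹ = zz ε i := inv_eq_of_mul_eq_one_left (zz_sq hI.hyp.ev i)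
      rw [h2]
      obtain ⟨w, F⟩ := hI.hyp.exists_fr
      have h3 := F.rU hij.symm
      rwa [F.Usym] at h3
  have hK : CU ε i j (WW V ε i j : Set G) ≤ CU ε i j ({zz ε i} : Set G) :=
    CU_mono (Set.singleton_subset_iff.2 (V_le_WW (zz_mem hI.hyp.ev i)))
  refine MinSimple.MinParabolic.le_of_forall (S := (S : Subgroup G) ⊓ NN ε i j) inf_le_right
    (fun g hg => hL g hg.1 (hI.norm_T_le hg)) fun R hR hRN => ?_
  by_cases hRL : R ≤ normalizer (V : Set G)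
  · exact fun g hg => hL g (hRN hg) (hRL hg)
  have hXo := hI.not_le_o2 hR.le hRN hRL
  have hT : ¬ 2 ∣ ((S : Subgroup G) ⊓ NN ε i j).relIndex R := fun h1 => hI.not_dvd (by
    rw [← relIndex_mul_relIndex _ R (NN ε i j) hR.le hRN]
    exact h1.mul_right _)
  have hf : Fact (Nat.Prime 2) := ⟨Nat.prime_two⟩
  rcases hR.sup_eq_or_inf_le (N := CU ε i j (WW V ε i j : Set G) ⊓ R) hI.T_two hT inf_le_right (fun g hg =>
    DiCoreAbs.mem_norm_of fun x hx => mem_inf.2 ⟨CU_WW_conj (hRN hg) hx.1, mul_mem (mul_mem hg hx.2) (inv_mem hg)⟩) with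
    h1 | h1
  · rw [← h1]
    exact sup_le (inf_le_left.trans hK) fun g hg => hL g hg.2 (hI.SL hg.1)
  · exfalso
    refine hXo (le_trans (le_inf hI.XX_le_T (le_inf (XX_le_CU hI.hyp hij hfix) (hI.XX_le_T.trans hR.le))) h1)

/-- **(6) of #18920**: `N` moves `λ`. -/
theorem false_of_fixL (h : Pos S P ε) (hI : In S (zl (S : Subgroup G) P) P ε i j) (hfix : FixL ε i j) :
    False := by
  have hij := hI.ij
  have hU : UU ε i j ≤ zl (S : Subgroup G) P := by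
    refine UU_le_V h.hyp hij (T := (S : Subgroup G) ⊓ NN ε i j)
      (A := o2 (centralizer ({zz ε i} : Set G)) ⊓ centralizer (o2 (centralizer ({zz ε i} : Set G)) : Set G))
      inf_le_right ?_ ?_ ?_ ?_ ?_ ?_
    · rw [← Nat.not_even_iff_odd, even_iff_two_dvd]
      exact hI.not_dvd
    · exact fun t ht => zz_of_mem hI ht.2 (hI.SL ht.1)
    · exact fun g hg => (coset hI hfix hg).2 _ rfl
    · refine le_inf (PtCen.le_o2_cent h.c2 S h.m3 h.hyp.ev h.par.le h.fix0 i) fun v hv => ?_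
      refine mem_centralizer_iff.2 fun x hx => ?_
      exact (mem_centralizer_iff.1 (o2_le_cent S h.m3 h.hyp.ev h.par.le h.fix0 i hx) v hv).symm
    · exact fun g hg a ha => conj_center hg ha
    · exact fun a ha b hb => mem_centralizer_iff.1 hb.2 a ha.1
  obtain ⟨a, b, c, d, hD⟩ : ∃ a b c d : Fin (2 ^ m + 1), D4 a b c d := by
    have h5 : 5 ≤ 2 ^ m + 1 := five_le hI.hm
    refine ⟨⟨0, by omega⟩, ⟨1, by omega⟩, ⟨2, by omega⟩, ⟨3, by omega⟩, ?_, ?_, ?_, ?_, ?_, ?_⟩ <;>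
      · intro e
        have := congrArg Fin.val e
        simp at this
  exact h.nc a b c d hD fun u hu y hy =>
    h.hyp.ev.comm_mem (UU_le_V_all h.hyp hij hU hD.ij hu) (UU_le_V_all h.hyp hij hU hD.kl hy)

/-- `N` moves `λ`: some `g ∈ N` does not normalise `O₂(N) ∩ C_G(V)` -/
theorem exists_mover (h : Pos S P ε) (hI : In S (zl (S : Subgroup G) P) P ε i j) :
    ∃ g ∈ NN ε i j, ∃ q ∈ o2 (NN ε i j), q ∈ KK ε ∧ ¬ g * q * g⁻¹ ∈ KK ε := by
  by_contra hc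
  push Not at hc
  exact false_of_fixL h hI fun g hg q hq hqK => hc g hg q hq hqK

/-- the same with 537's `Q0` -/
theorem not_le_normalizer (h : Pos S P ε) (hI : In S (zl (S : Subgroup G) P) P ε i j) :
    ¬ NN ε i j ≤ normalizer (Five.Q0 ε i j : Set G) :=
  (Five.mv_iff le_rfl).1 (exists_mover h hI)

end Cfsg.Agent.Omega.NSix.HT.Fix

end
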