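import Cfsg.Agent.Mrg.Omega.NO3S.ThmB.SymM
import Cfsg.Agent.Mrg.Omega.OM.BlkGen
import Cfsg.Agent.Mrg.Omega.HOne.PairP


/-!
# A vector which is moved in one way only by the offenders of a minimal parabolic  (#18323 (4), helper480)

`R` is a minimal parabolic of characteristic 2 over its Sylow 2-subgroup `T`, `W = zl T R = ⟨Ω₁(Z(T))^R⟩`, `𝒜` a set of
subgroups of `T` each of which centralises `W` or acts on it as an offender; some member acts nontrivially.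

* `triv` : an element of `R` which is trivial on `W / D` and on `D = C_W(O²(R))` centralises `W`;
* `nat`, `sym` : the two conclusions of the FF theorem;
* `exists_vec` : there is `ν ∈ W`, not centralised by some member of `𝒜`, such that the sets `[ν, A]`, `A ∈ 𝒜`, are
  trivial or equal to one set `E`, and no `1 ≠ x ∈ E` is centralised by `R`;
* `noOverM` : `NoOverM W R` without the hypothesis that there is an offender.
-/

set_option autoImplicit false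

namespace Cfsg.Agent.Omega.NSix.HTwo.Vec

open Subgroup Cfsg Cfsg.Agent.ZN.ChoiceBase Cfsg.Agent.ZN.ChoiceSit
open Cfsg.Agent.ZN (zc zl o2)
open Cfsg.Agent.MinSimple.MinParabolic (IsMinPar)
open Cfsg.Agent.MinSimple.VModule (le_normalizer_zl)
open Cfsg.Agent.Omega.FFThm
open Cfsg.Agent.Omega.FrameFF (cv)
open Cfsg.Agent.Omega.HOne (cv_le le_normalizer_cv conj_mem_zl conj_mem_cv)
open Cfsg.Agent.Omega.NO3S.ThmB
open Cfsg.Agent.Lib.SL2Mat
open Cfsg.Agent.Omega.NatPair (ap)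

universe u

variable {G : Type u} [Group G]

/-- the commutators of `ν` with the elements of `A` -/
def cms (ν : G) (A : Subgroup G) : Set G := {x | ∃ a ∈ A, x = a * ν * a⁻¹ * ν⁻¹}

/-- the conclusion -/
def HasVec (R W : Subgroup G) (𝒜 : Set (Subgroup G)) : Prop :=
  ∃ ν ∈ W, ∃ E : Set G, (∀ A ∈ 𝒜, (∀ a ∈ A, a * ν = ν * a) ∨ cms ν A = E) ∧
    (∃ A ∈ 𝒜, ∃ a ∈ A, a * ν ≠ ν * a) ∧ ∀ x ∈ E, (∀ g ∈ R, g * x = x * g) → x = 1

variable {T R V D : Subgroup G}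

/-! ### Natural modules -/

theorem nat {F : Type} [Field F] [CharP F 2] {k : ℕ} {M : NatKM F T R V D k} (h : Nb M)
    {𝒜 : Set (Subgroup G)} (hA : ∀ A ∈ 𝒜, A ≤ T)
    (hoff : ∀ A ∈ 𝒜, A ≤ centralizer (V : Set G) ∨ OffM V A)
    (hne : ∃ A ∈ 𝒜, ¬ A ≤ centralizer (V : Set G)) : HasVec R V 𝒜 := by
  obtain ⟨A₀, hA₀, hn₀⟩ := hne
  obtain ⟨I₀, hI₁, hI₂⟩ := M.offM A₀ (hA A₀ hA₀) ((hoff A₀ hA₀).resolve_left hn₀)
  obtain ⟨a₀, ha₀, hc₀⟩ := SetLike.not_le_iff_exists.mp hn₀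
  obtain ⟨b₀, hb₀, hact₀⟩ := hI₁ a₀ ha₀
  have ha₀R : a₀ ∈ R := h.SP' (hA A₀ hA₀ ha₀)
  obtain ⟨i, hi⟩ : ∃ i, b₀ i ≠ 0 := by
    by_contra hcon
    push Not at hcon
    apply hc₀
    rw [mem_centralizer_iff]
    intro v hv
    refine (h.comm_of_one ha₀R ?_ hv).symm
    have e : (fun i => up (b₀ i)) = (1 : Fin k → Matrix.SpecialLinearGroup (Fin 2) F) := by
      funext l
      rw [hcon l, up_zero]
      rfl
    rwa [e] at hact₀
  have hiI : i ∈ I₀ := by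
    by_contra hc
    exact hi (hb₀ i hc)
  obtain ⟨ν, hν, hνi, hνl⟩ := Nb.exists_single M i ![0, 1]
  refine ⟨ν, hν, {x | ∃ (t : F) (r : G), r ∈ R ∧ ActsSL M.e V D r (sg i (up t)) ∧ x = r * ν * r⁻¹ * ν⁻¹},
    fun A hA' => ?_, ⟨A₀, hA₀, a₀, ha₀, fun hc => ?_⟩, ?_⟩
  · rcases hoff A hA' with h1 | h1
    · left
      intro a ha
      exact (mem_centralizer_iff.1 (h1 ha) ν hν).symm
    obtain ⟨I, hI1, hI2⟩ := M.offM A (hA A hA') h1
    by_cases hiA : i ∈ I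
    · right
      ext x
      constructor
      · rintro ⟨a, ha, rfl⟩
        obtain ⟨b, hb, hact⟩ := hI1 a ha
        have haR : a ∈ R := h.SP' (hA A hA' ha)
        obtain ⟨r, hr, hrA⟩ := M.lift (sg i (up (b i)))
        refine ⟨b i, r, hr, hrA, ?_⟩
        have h2 := h.acts_mul haR (h.acts_inv hr hrA) hact
        have h3 := h.dir (mul_mem (inv_mem hr) haR) h2 (j := i)
          (by rw [Pi.mul_apply, Pi.inv_apply, sg_self, inv_mul_cancel]) hν hνl
        congr 1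
        calc a * ν * a⁻¹ = r * (r⁻¹ * a * ν) * a⁻¹ := by group
          _ = r * (ν * (r⁻¹ * a)) * a⁻¹ := by rw [h3]
          _ = r * ν * r⁻¹ := by group
      · rintro ⟨t, r, hr, hrA, rfl⟩
        obtain ⟨a, ha, hact⟩ := hI2 (Pi.single i t) fun l hl => by
          rw [Pi.single_eq_of_ne]
          rintro rfl
          exact hl hiA
        refine ⟨a, ha, ?_⟩
        have haR : a ∈ R := h.SP' (hA A hA' ha)
        have e : (fun l => up ((Pi.single i t : Fin k → F) l)) = sg i (up t) := by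
          funext l
          by_cases hl : l = i
          · subst hl
            rw [Pi.single_eq_same, sg_self]
          · rw [Pi.single_eq_of_ne hl, sg_ne hl, up_zero]
        rw [e] at hact
        rw [h.same hr haR hrA hact hν]
    · left
      intro a ha
      obtain ⟨b, hb, hact⟩ := hI1 a ha
      exact h.dir (h.SP' (hA A hA' ha)) hact (j := i) (by rw [hb i hiA, up_zero]) hν hνl
  · have h1 := h.up_entry hact₀ hν hνi
    have e : a₀ * ν * a₀⁻¹ = ν := by rw [hc]; group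
    rw [e, hνi] at h1
    exact hi h1.symm
  · rintro x ⟨t, r, hr, hrA, rfl⟩ hx
    have hrν : r * ν * r⁻¹ ∈ V := h.memV hr hν
    have hxV : r * ν * r⁻¹ * ν⁻¹ ∈ V := mul_mem hrν (inv_mem hν)
    have hex : M.e (r * ν * r⁻¹ * ν⁻¹) i = ![t, 0] := by
      rw [h.e_div hrν hν, Pi.add_apply, hrA.1 ν hν i, sg_self, hνi]
      refine vec_eq ?_ ?_
      · rw [Pi.add_apply, ap_up_0]
        simp
      · rw [Pi.add_apply, ap_up_1]
        simp only [Matrix.cons_val_one, Matrix.cons_val_zero]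
        exact CharTwo.add_self_eq_zero _
    obtain ⟨g, hg, hgA⟩ := M.lift (sg i (lo 1))
    have h1 : g * (r * ν * r⁻¹ * ν⁻¹) * g⁻¹ = r * ν * r⁻¹ * ν⁻¹ := by
      rw [hx g hg]; group
    have h2 := hgA.1 _ hxV i
    rw [h1, hex, sg_self] at h2
    have h3 := congrFun h2 1
    rw [ap_lo_1] at h3
    simp only [Matrix.cons_val_zero, Matrix.cons_val_one, one_mul, add_zero] at h3
    have ht : t = 0 := h3.symm
    subst ht
    have h4 : ActsSL M.e V D r 1 := by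
      rwa [up_zero, sg_one] at hrA
    have h5 := h.comm_of_one hr h4 hν
    rw [h5]
    group

/-! ### Even-subset modules -/

theorem sym {k m : ℕ} {M : SymKM T R V D k m} (h : Sb M)
    {𝒜 : Set (Subgroup G)} (hA : ∀ A ∈ 𝒜, A ≤ T)
    (hoff : ∀ A ∈ 𝒜, A ≤ centralizer (V : Set G) ∨ OffM V A)
    (hne : ∃ A ∈ 𝒜, ¬ A ≤ centralizer (V : Set G)) : HasVec R V 𝒜 := by
  obtain ⟨A₀, hA₀, hn₀⟩ := hne
  obtain ⟨hd₀, hI₀⟩ := M.offM A₀ (hA A₀ hA₀) ((hoff A₀ hA₀).resolve_left hn₀)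
  obtain ⟨a₀, ha₀, hc₀⟩ := SetLike.not_le_iff_exists.mp hn₀
  obtain ⟨τ₀, hτ₀, hs₀⟩ := hI₀ a₀ ha₀
  have ha₀R : a₀ ∈ R := h.SP' (hA A₀ hA₀ ha₀)
  obtain ⟨i, x, hx⟩ : ∃ i x, τ₀ i x ≠ x := by
    by_contra hcon
    push Not at hcon
    apply hc₀
    rw [mem_centralizer_iff]
    intro v hv
    have e : τ₀ = 1 := by
      funext l
      ext1 y
      exact hcon l y
    rw [e] at hτ₀
    exact (h.comm_of_one ha₀R ⟨hτ₀, hd₀ a₀ ha₀⟩ hv).symm
  obtain ⟨hinv, b₀, hb₀, hbact⟩ := hs₀ i x hx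
  set y := τ₀ i x with hy
  have hx0 : x ≠ 0 := by
    rintro rfl
    exact hx (M.fix0 a₀ (hA A₀ hA₀ ha₀) 1 τ₀ hτ₀ i)
  have hy0 : y ≠ 0 := by
    intro h0
    rw [h0, M.fix0 a₀ (hA A₀ hA₀ ha₀) 1 τ₀ hτ₀ i] at hinv
    exact hx0 hinv.symm
  have hxy : x ≠ y := fun h0 => hx h0.symm
  have hb₀R : b₀ ∈ R := h.SP' (hA A₀ hA₀ hb₀)
  have hbAc : Ac M b₀ (pr i x y) := ⟨hbact, hd₀ b₀ hb₀⟩
  obtain ⟨ν, hν, hνe, hfix⟩ := h.nx hxy hx0 hy0 (i := i)
  have hbν : M.e (b₀ * ν * b₀⁻¹) = dl i y + dl i 0 := by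
    rw [Sb.e_pair hbact hν hνe]
    have e : (pr i x y) i = Equiv.swap x y := sg_self _ _
    change dl i ((pr i x y) i x) + dl i ((pr i x y) i 0) = _
    rw [e, Equiv.swap_apply_left, Equiv.swap_apply_of_ne_of_ne (Ne.symm hx0) (Ne.symm hy0)]
  refine ⟨ν, hν, {z | z = 1 ∨ z = b₀ * ν * b₀⁻¹ * ν⁻¹}, fun A hA' => ?_,
    ⟨A₀, hA₀, b₀, hb₀, fun hc => ?_⟩, ?_⟩
  · rcases hoff A hA' with h1 | h1
    · left
      intro a ha
      exact (mem_centralizer_iff.1 (h1 ha) ν hν).symm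
    obtain ⟨hd, hI⟩ := M.offM A (hA A hA') h1
    have key : ∀ a ∈ A, a * ν = ν * a ∨ a * ν * a⁻¹ = b₀ * ν * b₀⁻¹ := by
      intro a ha
      obtain ⟨τ, hτ, hs⟩ := hI a ha
      have haT := hA A hA' ha
      have h0 : τ i 0 = 0 := M.fix0 a haT 1 τ hτ i
      by_cases hxa : τ i x = x
      · left
        have hya : τ i y = y := by
          by_contra hc
          obtain ⟨hinv', b, hb, hbb⟩ := hs i y hc
          have h2 := h.disj (hA A₀ hA₀ hb₀) (hA A hA' hb) (i := i) (x := y) (y := x) (z := τ i y) hxy hc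
            (by
              have e : pr i y x = pr i x y := by unfold pr; rw [Equiv.swap_comm]
              rw [e]; exact hbact) hbb
          rw [← h2, hxa] at hinv'
          exact hxy hinv'
        exact hfix a (h.SP' haT) τ ⟨hτ, hd a ha⟩ hxa hya h0
      · right
        obtain ⟨hinv', b, hb, hbb⟩ := hs i x hxa
        have h2 := h.disj (hA A₀ hA₀ hb₀) (hA A hA' hb) (i := i) (x := x) (y := y) (z := τ i x) (Ne.symm hxy) hxa
          hbact hbb
        have haR : a ∈ R := h.SP' haT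
        have h3 := h.ac_mul haR (h.ac_inv hb₀R hbAc) (⟨hτ, hd a ha⟩ : Ac M a τ)
        have e : (pr i x y) i = Equiv.swap x y := sg_self _ _
        have e1 : ((pr i x y)⁻¹ * τ) i = Equiv.swap x y * τ i := by
          rw [Pi.mul_apply, Pi.inv_apply, e, Equiv.swap_inv]
        rw [← h2] at hinv'
        have h4 := hfix _ (mul_mem (inv_mem hb₀R) haR) _ h3
          (by rw [e1, Equiv.Perm.mul_apply, ← h2, Equiv.swap_apply_right])
          (by rw [e1, Equiv.Perm.mul_apply, hinv', Equiv.swap_apply_left])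
          (by rw [e1, Equiv.Perm.mul_apply, h0, Equiv.swap_apply_of_ne_of_ne (Ne.symm hx0) (Ne.symm hy0)])
        calc a * ν * a⁻¹ = b₀ * (b₀⁻¹ * a * ν) * a⁻¹ := by group
          _ = b₀ * (ν * (b₀⁻¹ * a)) * a⁻¹ := by rw [h4]
          _ = b₀ * ν * b₀⁻¹ := by group
    by_cases hall : ∀ a ∈ A, a * ν = ν * a
    · exact Or.inl hall
    right
    push Not at hall
    obtain ⟨a, ha, han⟩ := hall
    have hab := (key a ha).resolve_left han
    ext z
    constructor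
    · rintro ⟨c, hc, rfl⟩
      rcases key c hc with h2 | h2
      · left
        rw [h2]; group
      · right
        rw [h2]
    · rintro (rfl | rfl)
      · exact ⟨1, one_mem _, by group⟩
      · exact ⟨a, ha, by rw [hab]⟩
  · have e : b₀ * ν * b₀⁻¹ = ν := by rw [hc]; group
    rw [e, hνe] at hbν
    have h1 := congrFun (congrFun hbν i) x
    rw [Pi.add_apply, Pi.add_apply, Pi.add_apply, Pi.add_apply, dl_self, dl_ne i hx0, dl_ne i hxy] at h1
    rw [add_zero, add_zero] at h1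
    exact one_ne_zero h1
  · rintro z (rfl | rfl) hz
    · rfl
    exfalso
    have hbV : b₀ * ν * b₀⁻¹ ∈ V := h.memV hb₀R hν
    have hzV : b₀ * ν * b₀⁻¹ * ν⁻¹ ∈ V := mul_mem hbV (inv_mem hν)
    have hze : M.e (b₀ * ν * b₀⁻¹ * ν⁻¹) = dl i x + dl i y := by
      rw [h.e_div hbV hν, hbν, hνe]
      have : dl i y + dl i 0 + (dl i x + dl i 0) = (dl i x + dl i y) + (dl i 0 + dl i 0) := by abel
      rw [this, add_self2, add_zero]
    obtain ⟨g, hg, hgA⟩ := M.lift (pr i y 0)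
    have h1 : g * (b₀ * ν * b₀⁻¹ * ν⁻¹) * g⁻¹ = b₀ * ν * b₀⁻¹ * ν⁻¹ := by
      rw [hz g hg]; group
    have h2 := Sb.e_pair hgA.1 hzV hze
    rw [h1, hze] at h2
    have e : (pr i y 0) i = Equiv.swap y 0 := sg_self _ _
    rw [e, Equiv.swap_apply_of_ne_of_ne hxy hx0, Equiv.swap_apply_left] at h2
    have h3 := congrFun (congrFun h2 i) y
    rw [Pi.add_apply, Pi.add_apply, Pi.add_apply, Pi.add_apply, dl_self, dl_ne i (Ne.symm hxy), dl_ne i hy0] at h3
    rw [zero_add, add_zero] at h3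
    exact one_ne_zero h3

/-! ### The minimal parabolic -/

section par

variable [Finite G]

/-- `x ∈ R` is trivial on `V / D` and on `D` -/
def Tr (T R D : Subgroup G) : Subgroup G where
  carrier := {g | g ∈ R ∧ (∀ v ∈ zl T R, g * v * g⁻¹ * v⁻¹ ∈ D) ∧ ∀ d ∈ D, g * d = d * g}
  one_mem' := ⟨one_mem _, fun v _ => by
    have e : (1 : G) * v * 1⁻¹ * v⁻¹ = 1 := by group
    rw [e]; exact one_mem _, fun d _ => by rw [one_mul, mul_one]⟩
  mul_mem' := by
    rintro a b ⟨ha, ha1, ha2⟩ ⟨hb, hb1, hb2⟩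
    refine ⟨mul_mem ha hb, fun v hv => ?_, fun d hd => ?_⟩
    · have e : a * b * v * (a * b)⁻¹ * v⁻¹ = (a * (b * v * b⁻¹) * a⁻¹ * (b * v * b⁻¹)⁻¹) * (b * v * b⁻¹ * v⁻¹) := by
        group
      rw [e]
      exact mul_mem (ha1 _ (conj_mem_zl hb hv)) (hb1 v hv)
    · rw [mul_assoc, hb2 d hd, ← mul_assoc, ha2 d hd, mul_assoc]
  inv_mem' := by
    rintro a ⟨ha, ha1, ha2⟩
    refine ⟨inv_mem ha, fun v hv => ?_, fun d hd => ?_⟩
    · have h1 : a⁻¹ * v * a⁻¹⁻¹ ∈ zl T R := conj_mem_zl (inv_mem ha) hv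
      have h2 := ha1 _ h1
      have e : a⁻¹ * v * a⁻¹⁻¹ * v⁻¹ = (a * (a⁻¹ * v * a⁻¹⁻¹) * a⁻¹ * (a⁻¹ * v * a⁻¹⁻¹)⁻¹)⁻¹ := by group
      rw [e]
      exact inv_mem h2
    · exact (show Commute a d from ha2 d hd).inv_left

theorem triv (hT : Syl T R) (hc : R ⊓ centralizer (o2 R : Set G) ≤ o2 R) (hDV : D ≤ zl T R)
    (hD : R ≤ normalizer (D : Set G)) {g : G} (hg : g ∈ R) (h1 : ∀ v ∈ zl T R, g * v * g⁻¹ * v⁻¹ ∈ D)
    (h2 : ∀ d ∈ D, g * d = d * g) {v : G} (hv : v ∈ zl T R) : g * v = v * g := by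
  have hsq : ∀ x ∈ zl T R, x ^ 2 = 1 := MinSimple.VModule.zl_sq hT.1 hT.2.1 (syl_not_dvd hT) hc
  have hK : Tr T R D ≤ centralizer (zl T R : Set G) := by
    refine MinSimple.Basic.le_centralizer_zl_of_pow hT.1 hT.2.1 (syl_not_dvd hT) (fun x hx => hx.1) ?_ ?_
    · intro r hr
      refine MinSimple.VModule.mem_normalizer_of_map_le ?_
      rintro _ ⟨x, ⟨hx, hx1, hx2⟩, rfl⟩
      change r * x * r⁻¹ ∈ Tr T R D
      refine ⟨mul_mem (mul_mem hr hx) (inv_mem hr), fun w hw => ?_, fun d hd => ?_⟩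
      · have h3 : r⁻¹ * w * r⁻¹⁻¹ ∈ zl T R := conj_mem_zl (inv_mem hr) hw
        have h4 := hx1 _ h3
        have e : r * x * r⁻¹ * w * (r * x * r⁻¹)⁻¹ * w⁻¹ =
            r * (x * (r⁻¹ * w * r⁻¹⁻¹) * x⁻¹ * (r⁻¹ * w * r⁻¹⁻¹)⁻¹) * r⁻¹ := by group
        rw [e]
        exact (mem_normalizer_iff.1 (hD hr) _).1 h4
      · have h3 : r⁻¹ * d * r⁻¹⁻¹ ∈ D := (mem_normalizer_iff.1 (hD (inv_mem hr)) _).1 hd
        have h4 := hx2 _ h3
        calc r * x * r⁻¹ * d = r * (x * (r⁻¹ * d * r⁻¹⁻¹)) * r⁻¹ := by group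
          _ = r * ((r⁻¹ * d * r⁻¹⁻¹) * x) * r⁻¹ := by rw [h4]
          _ = d * (r * x * r⁻¹) := by group
    · rintro x ⟨hx, hx1, hx2⟩
      refine ⟨1, mem_centralizer_iff.2 fun w hw => ?_⟩
      have h3 := hx1 w hw
      set d := x * w * x⁻¹ * w⁻¹ with hd
      have h4 : d * d = 1 := by
        have := hsq d (hDV h3)
        rwa [pow_two] at this
      have h5 : x * w * x⁻¹ = d * w := by rw [hd]; group
      have h6 : x * x * w * (x * x)⁻¹ = w := by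
        calc x * x * w * (x * x)⁻¹ = x * (x * w * x⁻¹) * x⁻¹ := by group
          _ = (x * d) * w * x⁻¹ := by rw [h5]; group
          _ = d * (x * w * x⁻¹) := by rw [hx2 d h3]; group
          _ = d * d * w := by rw [h5]; group
          _ = w := by rw [h4, one_mul]
      have h7 : x * x * w = w * (x * x) := mul_inv_eq_iff_eq_mul.1 h6
      rw [pow_one, pow_two]
      exact h7.symm
  exact (mem_centralizer_iff.1 (hK ⟨hg, h1, h2⟩) v hv).symm

theorem exists_vec (hFF : StmtM.{u}) (hT : Syl T R) (hR : IsMinPar T R)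
    (hc : R ⊓ centralizer (o2 R : Set G) ≤ o2 R) {𝒜 : Set (Subgroup G)} (hA : ∀ A ∈ 𝒜, A ≤ T)
    (hoff : ∀ A ∈ 𝒜, A ≤ centralizer (zl T R : Set G) ∨ OffM (zl T R) A)
    (hne : ∃ A ∈ 𝒜, ¬ A ≤ centralizer (zl T R : Set G)) : HasVec R (zl T R) 𝒜 := by
  obtain ⟨A, hA', hn⟩ := hne
  have hV2 := OM.BlkGen.zl_elem hT hc
  obtain ⟨-, ⟨F, iF, _, iC, k, hk, ⟨M⟩⟩ | ⟨k, m, hk, hm, ⟨M⟩⟩⟩ :=
    hFF G T R hT hR hc ⟨A, (hA A hA').trans hT.1, (hoff A hA').resolve_left hn⟩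
  · refine nat (M := M) ⟨hT.1, hV2, le_normalizer_zl T R, cv_le T R, le_normalizer_cv T R, ?_⟩ hA hoff ⟨A, hA', hn⟩
    intro g hg h1 h2 v hv
    refine triv hT hc (cv_le T R) (le_normalizer_cv T R) hg (fun w hw => ?_) h2 hv
    have hgw : g * w * g⁻¹ ∈ zl T R := conj_mem_zl hg hw
    refine (M.ker _ (mul_mem hgw (inv_mem hw))).1 ?_
    rw [M.mul _ hgw _ (inv_mem hw), h1 w hw, ← M.mul w hw _ (inv_mem hw), mul_inv_cancel]
    exact Nb.e_one
  · refine sym (M := M) ⟨hm, hT.2.1, hT.1, hV2, le_normalizer_zl T R, cv_le T R, le_normalizer_cv T R, ?_⟩ hA hoff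
      ⟨A, hA', hn⟩
    intro g hg h1 h2 v hv
    refine triv hT hc (cv_le T R) (le_normalizer_cv T R) hg (fun w hw => ?_) h2 hv
    have hgw : g * w * g⁻¹ ∈ zl T R := conj_mem_zl hg hw
    refine (M.ker _ (mul_mem hgw (inv_mem hw))).1 ?_
    rw [M.mul _ hgw _ (inv_mem hw), h1 w hw, ← M.mul w hw _ (inv_mem hw), mul_inv_cancel]
    exact Sb.e_one

/-- no over-offenders on `zl T R` -/
theorem noOverM (hFF : StmtM.{u}) (hT : Syl T R) (hR : IsMinPar T R)
    (hc : R ⊓ centralizer (o2 R : Set G) ≤ o2 R) : NoOverM (zl T R) R := by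
  intro A hAR hA
  by_cases h1 : A ≤ centralizer (zl T R : Set G)
  · rw [inf_eq_left.2 h1, mul_comm]
    exact Nat.mul_le_mul_right _ (Subgroup.card_le_of_le inf_le_left)
  by_cases h2 : Nat.card (zl T R) * Nat.card ↥(A ⊓ centralizer (zl T R : Set G)) ≤
    Nat.card A * Nat.card ↥(zl T R ⊓ centralizer (A : Set G))
  · exact (hFF G T R hT hR hc ⟨A, hAR, hA, h1, h2⟩).1 A hAR hA
  · exact (not_le.1 h2).le

end par

end Cfsg.Agent.Omega.NSix.HTwo.Vec
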